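import Groth.Prelude.Def_DRing2
import Groth.Agent.CAlgH3.TorBridge
import Mathlib.RingTheory.Flat.Equalizer

/-!
# Finite tor dimension and flatness of syzygies
-/

universe u

open TensorProduct CategoryTheory CategoryTheory.Limits Function

namespace Groth.Agent.Tor15

variable {R : Type u} [CommRing R]

theorem torVanish_of_flat {M F : Type u} [AddCommGroup M] [Module R M] [AddCommGroup F]
    [Module R F] [Module.Flat R F] : FlatCrit.TorVanish R M F := fun _ _ _ _ _ _ i p hip hp hi =>
  (LinearMap.lTensor_inj_iff_rTensor_inj M i).1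
    (LinearMap.lTensor_injective_of_exact_of_flat p hp i hi hip M)

section

variable {K F X L P N : Type u}
  [AddCommGroup K] [Module R K] [AddCommGroup F] [Module R F] [AddCommGroup X] [Module R X]
  [AddCommGroup L] [Module R L] [AddCommGroup P] [Module R P] [AddCommGroup N] [Module R N]

/-- `Tor₁(X, L) = 0` gives `Tor₁(K, N) = 0` for presentations `K → F → X` and `L → P → N`. -/
theorem torVanish_shift [Module.Flat R F] [Module.Flat R P]
    {j : K →ₗ[R] F} {q : F →ₗ[R] X} (hjq : Exact j q) (hq : Surjective q) (hj : Injective j)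
    {i : L →ₗ[R] P} {p : P →ₗ[R] N} (hip : Exact i p) (hp : Surjective p) (hi : Injective i)
    (h : FlatCrit.TorVanish R L X) : FlatCrit.TorVanish R K N := by
  have h1 : Injective (j.rTensor L) := h j q hjq hq hj
  refine FlatCrit.TorVanish.of_presentation i p hip hp torVanish_of_flat ?_
  rw [← LinearMap.lTensor_inj_iff_rTensor_inj]
  have h2 : Injective (i.lTensor F ∘ j.rTensor L) :=
    (Module.Flat.lTensor_preserves_injective_linearMap i hi).comp h1
  rw [← LinearMap.coe_comp, LinearMap.lTensor_comp_rTensor, ← LinearMap.rTensor_comp_lTensor,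
    LinearMap.coe_comp] at h2
  exact h2.of_comp

end

/-- `Tor₁(X, L) = 0` for some `j`-th syzygy `L` of `N`. -/
def Dim : ℕ → ∀ (X N : Type u) [AddCommGroup X] [Module R X] [AddCommGroup N] [Module R N], Prop
  | 0, X, N, _, _, _, _ => FlatCrit.TorVanish R N X
  | j + 1, X, N, _, _, _, _ => ∃ (L P : Type u) (_ : AddCommGroup L) (_ : Module R L)
      (_ : AddCommGroup P) (_ : Module R P) (_ : Module.Flat R P) (i : L →ₗ[R] P) (p : P →ₗ[R] N),
      Exact i p ∧ Surjective p ∧ Injective i ∧ Dim j X L

theorem torVanish_symm_aux {M N K F : Type u} [AddCommGroup M] [Module R M] [AddCommGroup N]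
    [Module R N] [AddCommGroup K] [Module R K] [AddCommGroup F] [Module R F] [Module.Flat R F]
    {j : K →ₗ[R] F} {g : F →ₗ[R] N} (hjg : Exact j g) (hg : Surjective g)
    (h1 : Injective (j.rTensor M)) : FlatCrit.TorVanish R N M := by
  intro A B _ _ _ _ i p hip hp hi
  have hB : Injective (i.lTensor F) := Module.Flat.lTensor_preserves_injective_linearMap i hi
  have h2 : Injective (i.lTensor N) :=
    CAlgH3.lTensor_injective_of_rTensor_injective hjg hg hip hp hB h1
  exact (LinearMap.lTensor_inj_iff_rTensor_inj N i).1 h2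

theorem torVanish_symm {M N : Type u} [AddCommGroup M] [Module R M] [AddCommGroup N] [Module R N]
    (h : FlatCrit.TorVanish R M N) : FlatCrit.TorVanish R N M :=
  let g : (N →₀ R) →ₗ[R] N := Finsupp.linearCombination R (id : N → N)
  have hg : Surjective g := fun n => ⟨Finsupp.single n 1, by
    simp only [g, Finsupp.linearCombination_single, one_smul]; rfl⟩
  torVanish_symm_aux (LinearMap.exact_subtype_ker_map g) hg
    (@h ↥(LinearMap.ker g) (N →₀ R) _ _ _ _ (LinearMap.ker g).subtype g
      (LinearMap.exact_subtype_ker_map g) hg (LinearMap.ker g).injective_subtype)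

theorem dim_shift {K F : Type u} [AddCommGroup K] [Module R K] [AddCommGroup F] [Module R F]
    [Module.Flat R F] (j : ℕ) : ∀ {X N : Type u} [AddCommGroup X] [Module R X] [AddCommGroup N]
    [Module R N] (i : K →ₗ[R] F) (q : F →ₗ[R] X), Exact i q → Surjective q → Injective i →
      Dim (R := R) (j + 1) X N → Dim (R := R) j K N := by
  induction j with
  | zero =>
    intro X N _ _ _ _ i q hiq hq hi h
    obtain ⟨L, P, _, _, _, _, _, i', p', hip', hp', hi', hd⟩ := h
    exact torVanish_symm (torVanish_shift hiq hq hi hip' hp' hi' hd)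
  | succ j ih =>
    intro X N _ _ _ _ i q hiq hq hi h
    obtain ⟨L, P, _, _, _, _, _, i', p', hip', hp', hi', hd⟩ := h
    exact ⟨L, P, inferInstance, inferInstance, inferInstance, inferInstance, inferInstance, i', p',
      hip', hp', hi', ih i q hiq hq hi hd⟩

theorem flat_of_dim_zero {Z : Type u} [AddCommGroup Z] [Module R Z]
    (h : ∀ (N : Type u) [AddCommGroup N] [Module R N], Dim (R := R) 0 Z N) : Module.Flat R Z := by
  rw [Module.Flat.iff_lTensor_preserves_injective_linearMap]
  intro A B _ _ _ _ i hi
  rw [LinearMap.lTensor_inj_iff_rTensor_inj]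
  exact torVanish_symm (h (B ⧸ LinearMap.range i)) i (LinearMap.range i).mkQ
    (LinearMap.exact_map_mkQ_range i) (Submodule.mkQ_surjective _) hi

theorem dim_of_hasTorDimLE {n : ℕ} {S : Type u} [AddCommGroup S] [Module R S]
    (h : DRing.HasTorDimLE R n S) (N : Type u) [AddCommGroup N] [Module R N] :
    Dim (R := R) (n + 1) S N := by
  let Pr := projectiveResolution (ModuleCat.of R N)
  let F₁ := (MonoidalCategory.tensoringLeft (ModuleCat.{u} R)).obj (ModuleCat.of R S)
  let d : ∀ m, Pr.complex.X (m + 1) →ₗ[R] Pr.complex.X m := fun m => (Pr.complex.d (m + 1) m).hom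
  let q : Pr.complex.X 0 →ₗ[R] N := (Pr.π.f 0).hom
  have hflat : ∀ m, Module.Flat R (Pr.complex.X m) := fun m => by
    have : Module.Projective R (Pr.complex.X m) := (IsProjective.iff_projective _).2 (Pr.projective m)
    infer_instance
  have hq : Surjective q := (ModuleCat.epi_iff_surjective (Pr.π.f 0)).1 inferInstance
  have hd0 : LinearMap.range (d 0) = LinearMap.ker q :=
    (ShortComplex.exact_of_g_is_cokernel (ShortComplex.mk _ _ Pr.complex_d_comp_π_f_zero)
      Pr.isColimitCokernelCofork).moduleCat_range_eq_ker
  have hd : ∀ m, LinearMap.range (d (m + 1)) = LinearMap.ker (d m) := fun m =>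
    (Pr.exact_succ m).moduleCat_range_eq_ker
  have hpres : ∀ m, Exact (LinearMap.range (d (m + 1))).subtype (d m).rangeRestrict := fun m => by
    rw [LinearMap.exact_iff, LinearMap.ker_rangeRestrict, Submodule.range_subtype, hd]
  -- the base
  have base : Dim (R := R) 0 S (LinearMap.range (d n)) := by
    have := hflat n
    refine torVanish_symm ?_
    refine FlatCrit.TorVanish.of_presentation (LinearMap.range (d (n + 1))).subtype
      (d n).rangeRestrict (hpres n) (d n).surjective_rangeRestrict
      (haveI := hflat (n + 1); torVanish_of_flat) ?_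
    have hz : Subsingleton (DRing.Tor R (n + 2) S N) := h N (n + 2) (by lia)
    have e := Pr.isoLeftDerivedObj F₁ (n + 2)
    have hz' : IsZero ((F₁.leftDerived (n + 2)).obj (ModuleCat.of R N)) :=
      @ModuleCat.isZero_of_subsingleton R _ _ hz
    rw [Iso.isZero_iff e, HomologicalComplex.homologyFunctor_obj,
      ← HomologicalComplex.exactAt_iff_isZero_homology,
      HomologicalComplex.exactAt_iff' _ (n + 3) (n + 2) (n + 1) (by simp) (by simp),
      ShortComplex.moduleCat_exact_iff_range_eq_ker] at hz'
    change LinearMap.range ((d (n + 2)).lTensor S) = LinearMap.ker ((d (n + 1)).lTensor S) at hz'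
    rw [← LinearMap.lTensor_inj_iff_rTensor_inj, injective_iff_map_eq_zero]
    intro x hx
    obtain ⟨y, rfl⟩ := LinearMap.lTensor_surjective S (d (n + 1)).surjective_rangeRestrict x
    have hy : y ∈ LinearMap.ker ((d (n + 1)).lTensor S) := by
      rw [LinearMap.mem_ker, ← hx, ← LinearMap.comp_apply, ← LinearMap.lTensor_comp]
      rfl
    obtain ⟨w, rfl⟩ := hz'.ge hy
    rw [← LinearMap.comp_apply, ← LinearMap.lTensor_comp]
    have : (d (n + 1)).rangeRestrict ∘ₗ d (n + 2) = 0 := by
      ext v
      have : d (n + 2) v ∈ LinearMap.ker (d (n + 1)) := hd (n + 1) ▸ LinearMap.mem_range_self _ v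
      simpa using this
    rw [this, LinearMap.lTensor_zero, LinearMap.zero_apply]
  have key : ∀ i m, m + i = n → Dim (R := R) i S (LinearMap.range (d m)) := by
    intro i
    induction i with
    | zero => intro m hm; obtain rfl : m = n := hm; exact base
    | succ i ih =>
      intro m hm
      exact ⟨_, _, inferInstance, inferInstance, inferInstance, inferInstance, hflat (m + 1), _, _,
        hpres m, (d m).surjective_rangeRestrict, Subtype.val_injective, ih (m + 1) (by lia)⟩
  refine ⟨_, _, inferInstance, inferInstance, inferInstance, inferInstance, hflat 0,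
    (LinearMap.range (d 0)).subtype, q, ?_, hq, Subtype.val_injective, key n 0 (zero_add n)⟩
  rw [LinearMap.exact_iff, Submodule.range_subtype, hd0]

/-- In a free resolution of a module of tor dimension `≤ n`, the syzygies of index `> n` are flat. -/
theorem flat_range {n : ℕ} {S : Type u} [AddCommGroup S] [Module R S]
    (h : DRing.HasTorDimLE R n S) (F : ℕ → Type u) [∀ i, AddCommGroup (F i)] [∀ i, Module R (F i)]
    [∀ i, Module.Flat R (F i)] (d : ∀ i, F (i + 1) →ₗ[R] F i) (q : F 0 →ₗ[R] S) (hq : Surjective q)
    (h0 : LinearMap.range (d 0) = LinearMap.ker q)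
    (hd : ∀ i, LinearMap.range (d (i + 1)) = LinearMap.ker (d i)) (m : ℕ) (hm : n ≤ m) :
    Module.Flat R (LinearMap.range (d m)) := by
  have h' : DRing.HasTorDimLE R m S := fun N _ _ p hp => h N p (by lia)
  have key : ∀ i, i ≤ m → ∀ (N : Type u) [AddCommGroup N] [Module R N],
      Dim (R := R) (m - i) (LinearMap.range (d i)) N := by
    intro i
    induction i with
    | zero =>
      intro _ N _ _
      refine dim_shift m (LinearMap.range (d 0)).subtype q ?_ hq (Submodule.injective_subtype _)
        (dim_of_hasTorDimLE h' N)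
      rw [LinearMap.exact_iff, Submodule.range_subtype, h0]
    | succ i ih =>
      intro hi N _ _
      have h1 := ih (by lia) N
      rw [show m - i = (m - (i + 1)) + 1 by lia] at h1
      refine dim_shift _ (LinearMap.range (d (i + 1))).subtype (d i).rangeRestrict ?_
        (d i).surjective_rangeRestrict (Submodule.injective_subtype _) h1
      rw [LinearMap.exact_iff, LinearMap.ker_rangeRestrict, Submodule.range_subtype, hd]
  exact flat_of_dim_zero fun N _ _ => by simpa using key m le_rfl N

end Groth.Agent.Tor15
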